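import Groth.Agent.LaurSec21.Series
import Mathlib.AlgebraicGeometry.Limits
import Mathlib.AlgebraicGeometry.Morphisms.Finite

/-!
# Points of split covers
-/

set_option autoImplicit false
set_option backward.isDefEq.respectTransparency false

universe u

open CategoryTheory CategoryTheory.Limits AlgebraicGeometry

noncomputable section

namespace Groth.Agent.LaurSec21

/-- Points of a trivial cover with values in a connected scheme. -/
theorem existsUnique_component {n : ℕ} (S C : Scheme.{u}) [ConnectedSpace C]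
    (t : C ⟶ ∐ fun _ : Fin n => S) :
    ∃! i : Fin n, t = (t ≫ Sigma.desc fun _ : Fin n => 𝟙 S) ≫ Sigma.ι (fun _ : Fin n => S) i := by
  classical
  let V : Fin n → Set (∐ fun _ : Fin n => S : Scheme.{u}) := fun i =>
    Set.range (Sigma.ι (fun _ : Fin n => S) i).base
  have hdis : ∀ i j, i ≠ j → Disjoint (V i) (V j) := fun i j h => Set.disjoint_left.2 fun z hz hz' => by
    obtain ⟨a, rfl⟩ := hz
    obtain ⟨b, hb⟩ := hz'
    exact eq_bot_iff.mp (disjoint_iff.mp (disjoint_opensRange_sigmaι (fun _ : Fin n => S) i j h))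
      (show (Sigma.ι (fun _ : Fin n => S) i).base a ∈ (_ : (∐ fun _ : Fin n => S).Opens) from
        ⟨⟨a, rfl⟩, ⟨b, hb⟩⟩)
  have hcov : ∀ z, ∃ i, z ∈ V i := fun z => by
    let 𝒰 := sigmaOpenCover (fun _ : Fin n => S)
    exact ⟨𝒰.idx z, 𝒰.covers z⟩
  obtain ⟨c⟩ := (inferInstance : Nonempty C)
  obtain ⟨i, hi⟩ := hcov (t.base c)
  have hall : ∀ z, t.base z ∈ V i := by
    have hop : ∀ j, IsOpen (t.base ⁻¹' V j) := fun j =>
      (Sigma.ι (fun _ : Fin n => S) j).isOpenEmbedding.isOpen_range.preimage t.continuous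
    have hcl : IsClopen (t.base ⁻¹' V i) := by
      refine ⟨⟨?_⟩, hop i⟩
      rw [show (t.base ⁻¹' V i)ᶜ = ⋃ j ∈ {j | j ≠ i}, t.base ⁻¹' V j from Set.ext fun z => by
        simp only [Set.mem_compl_iff, Set.mem_preimage, Set.mem_iUnion, Set.mem_setOf_eq]
        constructor
        · intro hz
          obtain ⟨j, hj⟩ := hcov (t.base z)
          exact ⟨j, fun e => hz (e ▸ hj), hj⟩
        · rintro ⟨j, hj, hz⟩ hz'
          exact Set.disjoint_left.1 (hdis j i hj) hz hz']
      exact isOpen_biUnion fun j _ => hop j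
    intro z
    have := hcl.eq_univ ⟨c, hi⟩
    exact Set.eq_univ_iff_forall.1 this z
  let g := IsOpenImmersion.lift (Sigma.ι (fun _ : Fin n => S) i) t (by
    rintro _ ⟨z, rfl⟩; exact hall z)
  have hg : g ≫ Sigma.ι (fun _ : Fin n => S) i = t := IsOpenImmersion.lift_fac _ _ _
  have hgd : t ≫ (Sigma.desc fun _ : Fin n => 𝟙 S) = g := by
    rw [← hg, Category.assoc, Sigma.ι_desc, Category.comp_id]
  refine ⟨i, by simp only [hgd, hg], fun j hj => ?_⟩
  by_contra hne
  refine Set.disjoint_left.1 (hdis j i hne) ?_ hi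
  refine ⟨(t ≫ Sigma.desc fun _ : Fin n => 𝟙 S).base c, ?_⟩
  rw [← Scheme.Hom.comp_apply, ← hj]

variable {A B : Type u} [CommRing A] [CommRing B] (f : A →+* B) {X : Scheme.{u}}
  (p : X ⟶ Spec (CommRingCat.of A)) {n : ℕ}
  (e : pullback p (Spec.map (CommRingCat.ofHom f)) ≅ ∐ fun _ : Fin n => Spec (CommRingCat.of B))

/-- The sheets of a split cover. -/
def sheet (i : Fin n) : Spec (CommRingCat.of B) ⟶ X :=
  Sigma.ι (fun _ : Fin n => Spec (CommRingCat.of B)) i ≫ e.inv ≫ pullback.fst _ _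

variable (he : e.hom ≫ Sigma.desc (fun _ : Fin n => 𝟙 (Spec (CommRingCat.of B))) =
    pullback.snd p (Spec.map (CommRingCat.ofHom f)))

include he in
theorem sheet_comp (i : Fin n) : sheet f p e i ≫ p = Spec.map (CommRingCat.ofHom f) := by
  have h : e.inv ≫ pullback.snd p (Spec.map (CommRingCat.ofHom f)) =
      Sigma.desc (fun _ : Fin n => 𝟙 (Spec (CommRingCat.of B))) := by
    rw [← he, Iso.inv_hom_id_assoc]
  rw [sheet, Category.assoc, Category.assoc, pullback.condition, reassoc_of% h, Sigma.ι_desc_assoc, Category.id_comp]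

include he in
theorem existsUnique_sheet {C : Scheme.{u}} [ConnectedSpace C] (ψ : C ⟶ Spec (CommRingCat.of B)) (s : C ⟶ X)
    (hs : s ≫ p = ψ ≫ Spec.map (CommRingCat.ofHom f)) : ∃! i, s = ψ ≫ sheet f p e i := by
  have hd : (pullback.lift s ψ hs ≫ e.hom) ≫ Sigma.desc (fun _ : Fin n => 𝟙 (Spec (CommRingCat.of B))) = ψ := by
    rw [Category.assoc, he, pullback.lift_snd]
  obtain ⟨i, hi, huniq⟩ := existsUnique_component _ C (pullback.lift s ψ hs ≫ e.hom)
  simp only [hd] at hi huniq
  refine ⟨i, ?_, fun j hj => huniq j ?_⟩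
  · show s = ψ ≫ Sigma.ι (fun _ : Fin n => Spec (CommRingCat.of B)) i ≫ e.inv ≫ pullback.fst _ _
    rw [← Category.assoc, ← hi, Category.assoc, Iso.hom_inv_id_assoc, pullback.lift_fst]
  · rw [← cancel_mono e.inv, Category.assoc, Iso.hom_inv_id, Category.comp_id]
    apply pullback.hom_ext
    · rw [pullback.lift_fst, Category.assoc, Category.assoc]
      exact hj
    · rw [pullback.lift_snd, ← he, Category.assoc, Category.assoc, Iso.inv_hom_id_assoc, Sigma.ι_desc,
        Category.comp_id]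

/-- Morphisms to an affine scheme along an injective ring map. -/
theorem cancel_spec [IsAffine X] {C C' : Type u} [CommRing C] [CommRing C'] (g : C →+* C') (hg : Function.Injective g)
    (a b : Spec (CommRingCat.of C) ⟶ X)
    (h : Spec.map (CommRingCat.ofHom g) ≫ a = Spec.map (CommRingCat.ofHom g) ≫ b) : a = b := by
  rw [← cancel_mono X.isoSpec.hom, ← Spec.map_preimage (a ≫ X.isoSpec.hom), ← Spec.map_preimage (b ≫ X.isoSpec.hom)]
  refine congrArg Spec.map (CommRingCat.hom_ext (RingHom.ext fun x => hg ?_))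
  have h2 : Spec.preimage (a ≫ X.isoSpec.hom) ≫ CommRingCat.ofHom g =
      Spec.preimage (b ≫ X.isoSpec.hom) ≫ CommRingCat.ofHom g := Spec.map_injective (by
    rw [Spec.map_comp, Spec.map_comp, Spec.map_preimage, Spec.map_preimage, ← Category.assoc, h, Category.assoc])
  exact congrArg (fun q : Γ(X, ⊤) ⟶ CommRingCat.of C' => q x) h2

/-- A point fixed by an automorphism descends. -/
theorem exists_descend [IsAffine X] {C C' : Type u} [CommRing C] [CommRing C'] (g : C →+* C') (hg : Function.Injective g)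
    (σ : C' →+* C') (hσ : ∀ b, σ b = b → b ∈ g.range) (t : Spec (CommRingCat.of C') ⟶ X)
    (ht : Spec.map (CommRingCat.ofHom σ) ≫ t = t) :
    ∃ s : Spec (CommRingCat.of C) ⟶ X, Spec.map (CommRingCat.ofHom g) ≫ s = t := by
  let φ := Spec.preimage (t ≫ X.isoSpec.hom)
  have hfix : φ ≫ CommRingCat.ofHom σ = φ := Spec.map_injective (by
    rw [Spec.map_comp, Spec.map_preimage, ← Category.assoc, ht])
  have hmem : ∀ x, φ x ∈ g.range := fun x =>
    hσ _ (congrArg (fun q : Γ(X, ⊤) ⟶ CommRingCat.of C' => q x) hfix)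
  choose ψ hψ using hmem
  let ψ' : Γ(X, ⊤) ⟶ CommRingCat.of C := CommRingCat.ofHom
    { toFun := ψ
      map_one' := hg (by rw [hψ, map_one, map_one])
      map_mul' := fun a b => hg (by rw [map_mul g, hψ, hψ, hψ, map_mul])
      map_zero' := hg (by rw [hψ, map_zero, map_zero])
      map_add' := fun a b => hg (by rw [map_add g, hψ, hψ, hψ, map_add]) }
  refine ⟨Spec.map ψ' ≫ X.isoSpec.inv, ?_⟩
  rw [← Spec.map_comp_assoc, show ψ' ≫ CommRingCat.ofHom g = φ from CommRingCat.hom_ext (RingHom.ext hψ),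
    Spec.map_preimage, Category.assoc, Iso.hom_inv_id, Category.comp_id]

end Groth.Agent.LaurSec21
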