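import Groth.Agent.S15749
import Mathlib.RingTheory.LaurentSeries
import Mathlib.RingTheory.Henselian
import Mathlib.RingTheory.RootsOfUnity.AlgebraicallyClosed
import Mathlib.RingTheory.Spectrum.Prime.Topology

/-!
# Laurent series over local rings
-/

set_option autoImplicit false
set_option backward.isDefEq.respectTransparency false

universe u

noncomputable section

namespace Groth.Agent.LaurSec21

variable {R : Type u} [CommRing R] {S : Type u} [CommRing S]

/-- The coefficientwise map. -/
def mapC (f : R →+* S) : LaurentSeries R →+* LaurentSeries S where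
  toFun x := x.map f
  map_one' := by
    ext n
    simp [HahnSeries.map_coeff, HahnSeries.coeff_one, apply_ite f]
  map_mul' x y := HahnSeries.map_mul (f : R →ₙ+* S)
  map_zero' := by ext; simp
  map_add' x y := by ext; simp

theorem mapC_coeff (f : R →+* S) (x : LaurentSeries R) (n : ℤ) : (mapC f x).coeff n = f (x.coeff n) := rfl

theorem mapC_ofPowerSeries (f : R →+* S) (x : PowerSeries R) :
    mapC f (HahnSeries.ofPowerSeries ℤ R x) = HahnSeries.ofPowerSeries ℤ S (PowerSeries.map f x) := by
  ext n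
  rw [mapC_coeff]
  rcases lt_or_ge n 0 with h | h
  · rw [PowerSeries.coeff_coe, PowerSeries.coeff_coe, if_pos h, if_pos h, map_zero]
  · rw [PowerSeries.coeff_coe, PowerSeries.coeff_coe, if_neg (not_lt.mpr h), if_neg (not_lt.mpr h),
      PowerSeries.coeff_map]

theorem eq_mapC (f : R →+* S) (ρ : LaurentSeries R →+* LaurentSeries S)
    (hρ : ρ.comp (HahnSeries.ofPowerSeries ℤ R) = (HahnSeries.ofPowerSeries ℤ S).comp (PowerSeries.map f)) :
    ρ = mapC f := by
  refine IsLocalization.ringHom_ext (Submonoid.powers (PowerSeries.X : PowerSeries R)) (RingHom.ext fun x => ?_)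
  rw [RingHom.comp_apply, RingHom.comp_apply, LaurentSeries.coe_algebraMap]
  exact (RingHom.congr_fun hρ x).trans (mapC_ofPowerSeries f x).symm

/-- The substitution `y ↦ u y`. -/
def scaleFun (u : Rˣ) (x : LaurentSeries R) : LaurentSeries R where
  coeff n := ((u ^ n : Rˣ) : R) * x.coeff n
  isPWO_support' := x.isPWO_support.mono fun n hn hx => hn (by simp only [hx, mul_zero])

theorem scaleFun_coeff (u : Rˣ) (x : LaurentSeries R) (n : ℤ) :
    (scaleFun u x).coeff n = ((u ^ n : Rˣ) : R) * x.coeff n := rfl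

theorem scaleFun_mul (u : Rˣ) (x y : LaurentSeries R) : scaleFun u (x * y) = scaleFun u x * scaleFun u y := by
  ext n
  rw [scaleFun_coeff, HahnSeries.coeff_mul, Finset.mul_sum]
  have hs : ∀ z : LaurentSeries R, (scaleFun u z).support = z.support := fun z => Set.ext fun m => by
    simp [HahnSeries.mem_support, scaleFun_coeff]
  rw [HahnSeries.coeff_mul]
  refine Finset.sum_congr ?_ fun ij hij => ?_
  · ext ij
    simp [hs]
  · rw [scaleFun_coeff, scaleFun_coeff]
    have : ij.1 + ij.2 = n := by
      simp at hij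
      exact hij.2.2
    rw [← this, zpow_add, Units.val_mul]
    ring

/-- The substitution `y ↦ u y` as a ring map. -/
def scale (u : Rˣ) : LaurentSeries R →+* LaurentSeries R where
  toFun := scaleFun u
  map_one' := by
    ext n
    rw [scaleFun_coeff, HahnSeries.coeff_one]
    split <;> simp_all
  map_mul' := scaleFun_mul u
  map_zero' := by ext; simp [scaleFun_coeff]
  map_add' x y := by ext; simp [scaleFun_coeff, mul_add]

theorem scale_coeff (u : Rˣ) (x : LaurentSeries R) (n : ℤ) :
    (scale u x).coeff n = ((u ^ n : Rˣ) : R) * x.coeff n := rfl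

theorem mapC_scale (f : R →+* S) (u : Rˣ) :
    (mapC f).comp (scale u) = (scale (Units.map (f : R →* S) u)).comp (mapC f) := by
  refine RingHom.ext fun x => ?_
  ext n
  rw [RingHom.comp_apply, RingHom.comp_apply, mapC_coeff, scale_coeff, scale_coeff, mapC_coeff, map_mul,
    ← map_zpow]
  rfl

variable {d : ℕ} (hinj : Function.Injective (AddMonoidHom.mulLeft (d : ℤ)))
  (hmono : ∀ g g' : ℤ, AddMonoidHom.mulLeft (d : ℤ) g ≤ AddMonoidHom.mulLeft (d : ℤ) g' ↔ g ≤ g')

/-- The substitution `x ↦ y ^ d`. -/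
abbrev sub (R : Type u) [CommRing R] : LaurentSeries R →+* LaurentSeries R :=
  HahnSeries.embDomainRingHom (R := R) (AddMonoidHom.mulLeft (d : ℤ)) hinj hmono

theorem sub_coeff (x : LaurentSeries R) (n : ℤ) : (sub hinj hmono R x).coeff ((d : ℤ) * n) = x.coeff n :=
  HahnSeries.embDomain_coeff

theorem sub_coeff_of_not_dvd (x : LaurentSeries R) (m : ℤ) (h : ¬ (d : ℤ) ∣ m) :
    (sub hinj hmono R x).coeff m = 0 :=
  HahnSeries.embDomain_notin_range fun ⟨n, hn⟩ => h ⟨n, hn.symm⟩

theorem sub_injective : Function.Injective (sub hinj hmono R) := fun x y h => by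
  ext n
  rw [← sub_coeff hinj hmono x n, h, sub_coeff]

theorem mapC_sub (f : R →+* S) : (mapC f).comp (sub hinj hmono R) = (sub hinj hmono S).comp (mapC f) := by
  refine RingHom.ext fun x => ?_
  ext m
  rw [RingHom.comp_apply, RingHom.comp_apply, mapC_coeff]
  by_cases h : (d : ℤ) ∣ m
  · obtain ⟨n, rfl⟩ := h
    rw [sub_coeff, sub_coeff, mapC_coeff]
  · rw [sub_coeff_of_not_dvd hinj hmono x m h, sub_coeff_of_not_dvd hinj hmono _ m h, map_zero]

theorem scale_sub (u : Rˣ) (hu : u ^ d = 1) : (scale u).comp (sub hinj hmono R) = sub hinj hmono R := by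
  refine RingHom.ext fun x => ?_
  ext m
  rw [RingHom.comp_apply, scale_coeff]
  by_cases h : (d : ℤ) ∣ m
  · obtain ⟨n, rfl⟩ := h
    rw [zpow_mul, zpow_natCast, hu, one_zpow, Units.val_one, one_mul]
  · rw [sub_coeff_of_not_dvd hinj hmono x m h, mul_zero]

/-- Elements fixed by a faithful substitution are series in `y ^ d`. -/
theorem mem_range_sub (u : Rˣ) (hu : ∀ m : ℤ, ¬ (d : ℤ) ∣ m → IsUnit (((u ^ m : Rˣ) : R) - 1))
    (b : LaurentSeries R) (hb : scale u b = b) : b ∈ (sub hinj hmono R).range := by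
  let a : LaurentSeries R :=
    { coeff := fun n => b.coeff ((d : ℤ) * n)
      isPWO_support' := by
        have hmo : StrictMono fun n : ℤ => (d : ℤ) * n := fun g g' hg => lt_of_le_of_ne ((hmono g g').2 hg.le)
          fun he => hg.ne (hinj he)
        refine Set.IsWF.isPWO ?_
        have := b.isPWO_support.isWF
        rw [Set.isWF_iff_no_descending_seq] at this ⊢
        exact fun f hf hfs => this (fun j => (d : ℤ) * f j) (hmo.comp_strictAnti hf) fun j => hfs j }
  refine ⟨a, ?_⟩
  ext m
  by_cases h : (d : ℤ) ∣ m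
  · obtain ⟨n, rfl⟩ := h
    exact sub_coeff hinj hmono a n
  · rw [sub_coeff_of_not_dvd hinj hmono a m h]
    have h1 : (((u ^ m : Rˣ) : R) - 1) * b.coeff m = 0 := by
      have := congrArg (fun z => HahnSeries.coeff z m) hb
      rw [scale_coeff] at this
      rw [_root_.sub_mul, one_mul, this, sub_self]
    exact ((hu m h).mul_right_eq_zero.1 h1).symm

instance connectedSpace [IsLocalRing R] : ConnectedSpace (PrimeSpectrum (LaurentSeries R)) := by
  haveI : Nontrivial (LaurentSeries R) := inferInstance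
  haveI : PreconnectedSpace (PrimeSpectrum (LaurentSeries R)) := by
    refine preconnectedSpace_iff_clopen.mpr fun s hs => ?_
    obtain ⟨e, he, rfl⟩ := PrimeSpectrum.isClopen_iff.1 hs
    obtain ⟨r, ⟨hr, rfl⟩, -⟩ := Groth.Agent.S15749.result R e he
    rcases IsLocalRing.isUnit_or_isUnit_one_sub_self r with h | h
    · right
      rw [(IsIdempotentElem.iff_eq_one_of_isUnit h).1 hr]
      simp
    · left
      rw [show r = 0 from h.mul_left_eq_zero.1 (by rw [mul_sub, mul_one, hr.eq, sub_self])]
      simp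
  exact ⟨inferInstance⟩

/-- A primitive root of unity lifts to a Henselian local ring. -/
theorem exists_root [HenselianLocalRing R] [IsSepClosed (IsLocalRing.ResidueField R)] (hd : 0 < d)
    (hdu : IsUnit (d : R)) : ∃ u : Rˣ, u ^ d = 1 ∧ ∀ m : ℤ, ¬ (d : ℤ) ∣ m → IsUnit (((u ^ m : Rˣ) : R) - 1) := by
  haveI : NeZero (d : IsLocalRing.ResidueField R) := ⟨by
    rw [← map_natCast (IsLocalRing.residue R)]
    exact ((IsLocalRing.residue R).isUnit_map hdu).ne_zero⟩
  obtain ⟨z, hz⟩ := HasEnoughRootsOfUnity.exists_primitiveRoot (IsLocalRing.ResidueField R) d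
  obtain ⟨a₀, ha₀⟩ := IsLocalRing.residue_surjective z
  have hz0 : z ≠ 0 := hz.ne_zero hd.ne'
  obtain ⟨a, ha, ha'⟩ := HenselianLocalRing.is_henselian (Polynomial.X ^ d - 1 : Polynomial R)
    (by simpa using Polynomial.monic_X_pow_sub_C (1 : R) hd.ne') a₀
    (by
      rw [← IsLocalRing.residue_eq_zero_iff]
      simp [ha₀, hz.pow_eq_one])
    (by
      refine (IsLocalRing.notMem_maximalIdeal).1 fun hm => ?_
      rw [← IsLocalRing.residue_eq_zero_iff] at hm
      simp [ha₀, Polynomial.derivative_X_pow, hz0, NeZero.ne] at hm)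
  have had : a ^ d = 1 := by simpa [Polynomial.IsRoot, sub_eq_zero] using ha
  let u : Rˣ := Units.ofPowEqOne a d had hd.ne'
  refine ⟨u, Units.ext (by simpa [u] using had), fun m hm => (IsLocalRing.notMem_maximalIdeal).1 fun hmem => hm ?_⟩
  rw [← IsLocalRing.residue_eq_zero_iff, map_sub, map_one, sub_eq_zero] at hmem
  have haz : IsLocalRing.residue R a = z := by
    rw [← ha₀, ← sub_eq_zero, ← map_sub]
    exact (IsLocalRing.residue_eq_zero_iff _).2 ha'
  refine (hz.zpow_eq_one_iff_dvd m).1 ?_
  have hval : ((Units.map (IsLocalRing.residue R : R →* _) u : (IsLocalRing.ResidueField R)ˣ) :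
      IsLocalRing.ResidueField R) = z := haz
  rw [← hmem, ← hval, ← Units.val_zpow_eq_zpow_val, ← map_zpow]
  rfl

end Groth.Agent.LaurSec21
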